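import Cfsg.Agent.S3020
import Cfsg.Agent.S3021
import Cfsg.Agent.Lib.Thompson.Cores
import Cfsg.Agent.LAE65.Basic

/-!
Basic facts on extremely closed abelian 2-subgroups: the subgroup generated by two conjugates,
passage to subgroups and to quotients.
-/

set_option autoImplicit false
set_option maxHeartbeats 400000

open Subgroup

namespace Cfsg.Agent.EC72

variable {G : Type*} [Group G]

/-- A conjugate of `H` meets the normaliser of `H` inside `H`. -/
theorem mem_of_conj_mem_normalizer {H : Subgroup G} (hcl : Cfsg.IsExtremelyClosed H) {g x : G}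
    (hx : x ∈ H.map (MulAut.conj g).toMonoidHom) (hn : x ∈ normalizer (H : Set G)) : x ∈ H := by
  rw [← hcl g]
  exact ⟨mem_sup_right hx, hn⟩

theorem mem_normalizer_of_subgroupOf {H C : Subgroup G} (hHC : H ≤ C) {x : C}
    (hx : x ∈ normalizer ((H.subgroupOf C : Subgroup C) : Set C)) :
    (x : G) ∈ normalizer (H : Set G) := by
  refine mem_normalizer_iff.2 fun y => ⟨fun hy => ?_, fun hy => ?_⟩
  · exact (mem_normalizer_iff.1 hx ⟨y, hHC hy⟩).1 hy
  · have hyC : y ∈ C := by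
      have := C.mul_mem (C.mul_mem (C.inv_mem x.2) (hHC hy)) x.2
      simpa [mul_assoc] using this
    exact (mem_normalizer_iff.1 hx ⟨y, hyC⟩).2 hy

theorem isExtremelyClosed_subgroupOf {H C : Subgroup G} (hHC : H ≤ C)
    (hcl : Cfsg.IsExtremelyClosed H) : Cfsg.IsExtremelyClosed (H.subgroupOf C) := by
  intro g
  refine le_antisymm ?_ (le_inf le_sup_left le_normalizer)
  rintro x ⟨hx, hn⟩
  have h2 : (x : G) ∈ H ⊔ H.map (MulAut.conj (g : G)).toMonoidHom := by
    have h3 := mem_map_of_mem C.subtype hx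
    refine (sup_le ?_ ?_ : _ ≤ H ⊔ H.map (MulAut.conj (g : G)).toMonoidHom)
      (Subgroup.map_sup _ _ C.subtype ▸ h3)
    · rintro _ ⟨y, hy, rfl⟩
      exact mem_sup_left hy
    · rintro _ ⟨_, ⟨z, hz, rfl⟩, rfl⟩
      exact mem_sup_right (LAE65.conj_mem_map hz)
  show (x : G) ∈ H
  rw [← hcl (g : G)]
  exact ⟨h2, mem_normalizer_of_subgroupOf hHC hn⟩

variable [Finite G]

/-- The subgroup generated by `H` and a conjugate, with its odd normal complement. -/
theorem exists_pair {H : Subgroup G} (hH2 : IsPGroup 2 H) (hHab : IsMulCommutative H)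
    (hcl : Cfsg.IsExtremelyClosed H) (g : G) :
    ∃ O : Subgroup G, H ⊔ O = H ⊔ H.map (MulAut.conj g).toMonoidHom ∧ H ⊓ O = ⊥ ∧
      H ≤ normalizer (O : Set G) ∧ Odd (Nat.card O) ∧
      ∀ x ∈ H ⊔ H.map (MulAut.conj g).toMonoidHom, ∃ e ∈ H, ∃ o ∈ O, x = e * o := by
  haveI : Fact (Nat.Prime 2) := ⟨Nat.prime_two⟩
  set T := H ⊔ H.map (MulAut.conj g).toMonoidHom with hT
  obtain ⟨h1, h2⟩ := S3020.result H hH2 hHab hcl g T hT
  set O := (Cfsg.pPrimeCore 2 T).map T.subtype
  have key : ∀ t ∈ T, ∀ y ∈ O, t * y * t⁻¹ ∈ O := by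
    rintro t ht _ ⟨o, ho, rfl⟩
    exact ⟨⟨t, ht⟩ * o * ⟨t, ht⟩⁻¹, Normal.conj_mem Thompson.instPPrimeCoreNormal o ho _, rfl⟩
  have hn : T ≤ normalizer (O : Set G) := fun t ht =>
    mem_normalizer_iff.2 fun y => ⟨key t ht y, fun hy => by
      simpa [mul_assoc] using key _ (T.inv_mem ht) _ hy⟩
  have hHn : H ≤ normalizer (O : Set G) := le_trans le_sup_left hn
  refine ⟨O, h1, h2, hHn, ?_, fun x hx => ?_⟩
  · rw [Subgroup.card_map_of_injective T.subtype_injective, ← Nat.coprime_two_right]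
    exact Thompson.card_pPrimeCore_coprime
  · rw [← h1] at hx
    have hx' : x ∈ ((H ⊔ O : Subgroup G) : Set G) := hx
    rw [coe_mul_of_left_le_normalizer_right H O hHn] at hx'
    obtain ⟨e, he, o, ho, rfl⟩ := hx'
    exact ⟨e, he, o, ho, rfl⟩

/-- A second subgroup between whose join with `H` has odd index: conjugates of `H` inside are
conjugate. -/
theorem exists_conj_eq_of_odd {H D : Subgroup G} (hH2 : IsPGroup 2 H) (hHD : H ≤ D) {g : G}
    (hgD : H.map (MulAut.conj g).toMonoidHom ≤ D) (hodd : Odd (H.relIndex D)) :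
    ∃ d ∈ D, d⁻¹ * g ∈ normalizer (H : Set G) := by
  haveI : Fact (Nat.Prime 2) := ⟨Nat.prime_two⟩
  have h2 : ¬ 2 ∣ H.relIndex D := fun h =>
    (Nat.not_even_iff_odd.2 hodd) (even_iff_two_dvd.2 h)
  have h3 : (H.map (MulAut.conj g).toMonoidHom).relIndex D = H.relIndex D := by
    have h4 := relIndex_mul_relIndex ⊥ H D bot_le hHD
    have h5 := relIndex_mul_relIndex ⊥ _ D bot_le hgD
    rw [relIndex_bot_left, relIndex_bot_left] at h4 h5
    rw [LAE65.card_map_conj] at h5
    exact Nat.eq_of_mul_eq_mul_left Nat.card_pos (h5.trans h4.symm)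
  obtain ⟨d, hd, hde⟩ := LAE65.exists_conj_eq_in hHD hgD hH2 (LAE65.isPGroup_map_conj hH2 g) h2
    (h3 ▸ h2)
  refine ⟨d, hd, LAE65.mem_normalizer_iff_map.2 ?_⟩
  rw [← LAE65.map_conj_mul, ← hde, LAE65.map_conj_mul, inv_mul_cancel, LAE65.map_conj_one]

/-- Every element lies in the normaliser of `H` up to the join of `H` and its conjugate. -/
theorem exists_mem_pair {H : Subgroup G} (hH2 : IsPGroup 2 H) (hHab : IsMulCommutative H)
    (hcl : Cfsg.IsExtremelyClosed H) (g : G) :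
    ∃ d ∈ H ⊔ H.map (MulAut.conj g).toMonoidHom, d⁻¹ * g ∈ normalizer (H : Set G) := by
  obtain ⟨O, h1, h2, hn, hodd, -⟩ := exists_pair hH2 hHab hcl g
  refine exists_conj_eq_of_odd hH2 le_sup_left le_sup_right (hodd.of_dvd_nat (dvd_of_eq ?_))
  rw [← h1]
  have hcard : Nat.card H * Nat.card O = Nat.card (H ⊔ O : Subgroup G) := by
    rw [← Nat.card_prod]
    refine Nat.card_eq_of_bijective (fun q : H × O => (⟨q.1.1 * q.2.1,
      mul_mem (mem_sup_left q.1.2) (mem_sup_right q.2.2)⟩ : (H ⊔ O : Subgroup G))) ⟨?_, ?_⟩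
    · intro q r h
      exact mul_injective_of_disjoint (disjoint_iff.2 h2) (congrArg Subtype.val h)
    · rintro ⟨y, hy⟩
      have hy' : y ∈ ((H ⊔ O : Subgroup G) : Set G) := hy
      rw [coe_mul_of_left_le_normalizer_right H O hn] at hy'
      obtain ⟨e, he, o, ho, rfl⟩ := hy'
      exact ⟨(⟨e, he⟩, ⟨o, ho⟩), rfl⟩
  have h4 := relIndex_mul_relIndex ⊥ H (H ⊔ O) bot_le le_sup_left
  rw [relIndex_bot_left, relIndex_bot_left] at h4
  exact Nat.eq_of_mul_eq_mul_left Nat.card_pos (h4.trans hcard.symm)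

/-- Extreme closure passes to the quotient by a normal subgroup in whose product with `H` the
index of `H` is odd, and so does the normaliser. -/
theorem quotient {H : Subgroup G} (hH2 : IsPGroup 2 H) (hcl : Cfsg.IsExtremelyClosed H)
    (N : Subgroup G) [N.Normal] (hodd : Odd (H.relIndex (H ⊔ N))) :
    Cfsg.IsExtremelyClosed (H.map (QuotientGroup.mk' N)) ∧
      normalizer (H.map (QuotientGroup.mk' N) : Set (G ⧸ N)) ≤
        (normalizer (H : Set G)).map (QuotientGroup.mk' N) := by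
  set π := QuotientGroup.mk' N
  have hle : ∀ x : G, π x ∈ normalizer (H.map π : Set (G ⧸ N)) →
      H.map (MulAut.conj x).toMonoidHom ≤ H ⊔ N := by
    rintro x hx _ ⟨a, ha, rfl⟩
    have h1 := (mem_normalizer_iff.1 hx (π a)).1 (mem_map_of_mem π ha)
    rw [← map_inv, ← map_mul, ← map_mul] at h1
    have h2 : x * a * x⁻¹ ∈ (H.map π).comap π := h1
    rw [comap_map_eq, QuotientGroup.ker_mk'] at h2
    exact h2
  have hbar : ∀ d ∈ H ⊔ N, π d ∈ H.map π := fun d hd => by
    have h2 : d ∈ (H.map π).comap π := by rwa [comap_map_eq, QuotientGroup.ker_mk']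
    exact h2
  refine ⟨fun q => le_antisymm ?_ (le_inf le_sup_left le_normalizer), fun q hq => ?_⟩
  · obtain ⟨g, rfl⟩ := QuotientGroup.mk'_surjective N q
    rintro y ⟨hy, hyn⟩
    have h0 : (H.map π) ⊔ (H.map π).map (MulAut.conj (π g)).toMonoidHom =
        (H ⊔ H.map (MulAut.conj g).toMonoidHom).map π := by
      rw [Subgroup.map_sup, Subgroup.map_map, Subgroup.map_map]
      congr 2
    rw [h0] at hy
    obtain ⟨k, hk, rfl⟩ := hy
    set K := H ⊔ H.map (MulAut.conj g).toMonoidHom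
    have hkH : H.map (MulAut.conj k).toMonoidHom ≤ K ⊓ (H ⊔ N) :=
      le_inf (LAE65.map_conj_le_of_mem le_sup_left hk) (hle k hyn)
    obtain ⟨d, hd, hdn⟩ := exists_conj_eq_of_odd hH2 (le_inf le_sup_left le_sup_left) hkH
      (hodd.of_dvd_nat ⟨_, (relIndex_mul_relIndex _ _ _ (le_inf le_sup_left le_sup_left)
        (inf_le_right (a := K))).symm⟩)
    have hdk : d⁻¹ * k ∈ H := by
      rw [← hcl g]
      exact ⟨K.mul_mem (K.inv_mem hd.1) hk, hdn⟩
    refine hbar k ?_
    have := mul_mem hd.2 (mem_sup_left (T := N) hdk)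
    rwa [mul_inv_cancel_left] at this
  · obtain ⟨x, rfl⟩ := QuotientGroup.mk'_surjective N q
    obtain ⟨d, hd, hdn⟩ := exists_conj_eq_of_odd hH2 le_sup_left (hle x hq) hodd
    have h1 : π d ∈ (normalizer (H : Set G)).map π := map_mono le_normalizer (hbar d hd)
    have h2 := mul_mem h1 (mem_map_of_mem π hdn)
    rwa [← map_mul, mul_inv_cancel_left] at h2

end Cfsg.Agent.EC72
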