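import Cfsg.Agent.EC72.Basic
import Cfsg.Agent.Lib.Coprime.Generation

/-!
The odd-product map from the conjugates of the involutions of an extremely closed abelian
2-subgroup `H` to the involutions of `H`, and its invariance.
-/

set_option autoImplicit false
set_option maxHeartbeats 400000

open Subgroup

namespace Cfsg.Agent.EC72

variable {G : Type*} [Group G]

/-- The conjugates of the involutions of `H`. -/
def invClass (H : Subgroup G) : Set G :=
  {t | ∃ g e : G, e ∈ H ∧ orderOf e = 2 ∧ t = g * e * g⁻¹}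

/-- The involution of `H` with which `t` has a product of odd order. -/
noncomputable def colour (H : Subgroup G) (t : G) : G :=
  Classical.epsilon fun u => u ∈ H ∧ orderOf u = 2 ∧ Odd (orderOf (t * u))

theorem self_mem_invClass {H : Subgroup G} {e : G} (he : e ∈ H) (he2 : orderOf e = 2) :
    e ∈ invClass H := ⟨1, e, he, he2, by simp⟩

theorem conj_mem_invClass {H : Subgroup G} {t : G} (ht : t ∈ invClass H) (g : G) :
    g * t * g⁻¹ ∈ invClass H := by
  obtain ⟨x, e, he, he2, rfl⟩ := ht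
  exact ⟨g * x, e, he, he2, by group⟩

theorem orderOf_invClass {H : Subgroup G} {t : G} (ht : t ∈ invClass H) : orderOf t = 2 := by
  obtain ⟨x, e, -, he2, rfl⟩ := ht
  rw [← he2, ← MulEquiv.orderOf_eq (MulAut.conj x) e]
  rfl

theorem mul_self_of_orderOf {a : G} (ha : orderOf a = 2) : a * a = 1 := by
  rw [← sq, ← ha]; exact pow_orderOf_eq_one a

theorem inv_of_orderOf {a : G} (ha : orderOf a = 2) : a⁻¹ = a :=
  inv_eq_of_mul_eq_one_right (mul_self_of_orderOf ha)

theorem orderOf_conj' (g x : G) : orderOf (g * x * g⁻¹) = orderOf x := by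
  rw [← MulEquiv.orderOf_eq (MulAut.conj g) x]; rfl

/-- For involutions `a` and `t`, `a (ta)^(2k+1)` is a conjugate of `t`. -/
theorem exists_conj_pow {a t : G} (ha : a * a = 1) (ht : t * t = 1) (k : ℕ) :
    ∃ y : G, a * (t * a) ^ (2 * k + 1) = y * t * y⁻¹ := by
  have hai : a⁻¹ = a := inv_eq_of_mul_eq_one_right ha
  have hti : t⁻¹ = t := inv_eq_of_mul_eq_one_right ht
  induction k with
  | zero => exact ⟨a, by simp [hai, mul_assoc]⟩
  | succ k ih =>
    obtain ⟨y, hy⟩ := ih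
    refine ⟨a * t * y, ?_⟩
    calc a * (t * a) ^ (2 * (k + 1) + 1)
        = a * t * (a * (t * a) ^ (2 * k + 1)) * (t * a) := by
          rw [show 2 * (k + 1) + 1 = 1 + (2 * k + 1) + 1 by omega, pow_add, pow_add, pow_one]
          simp [mul_assoc]
      _ = a * t * y * t * (a * t * y)⁻¹ := by
          rw [hy]
          simp [mul_inv_rev, hai, hti, mul_assoc]

theorem pow_mul_mem {H O : Subgroup G} (hn : H ≤ normalizer (O : Set G)) {e o : G} (he : e ∈ H)
    (ho : o ∈ O) : ∀ n : ℕ, (e ^ n)⁻¹ * (e * o) ^ n ∈ O := by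
  intro n
  induction n with
  | zero => simp
  | succ n ih =>
    have h1 := (mem_normalizer_iff''.1 (hn he) _).1 ih
    convert O.mul_mem h1 ho using 1
    rw [pow_succ, pow_succ]
    group

variable [Finite G]

theorem odd_orderOf_of_mem {O : Subgroup G} (hO : Odd (Nat.card O)) {x : G} (hx : x ∈ O) :
    Odd (orderOf x) :=
  hO.of_dvd_nat ((Subgroup.orderOf_coe (⟨x, hx⟩ : O)).symm ▸ orderOf_dvd_natCard _)

theorem eq_one_of_odd {H O : Subgroup G} (hH2 : IsPGroup 2 H) (hinf : H ⊓ O = ⊥)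
    (hn : H ≤ normalizer (O : Set G)) {e o : G} (he : e ∈ H) (ho : o ∈ O)
    (hodd : Odd (orderOf (e * o))) : e = 1 := by
  have h1 := pow_mul_mem hn he ho (orderOf (e * o))
  rw [pow_orderOf_eq_one, mul_one, inv_mem_iff] at h1
  have h2 : e ^ orderOf (e * o) = 1 := (Subgroup.eq_bot_iff_forall _).1 hinf _ ⟨pow_mem he _, h1⟩
  obtain ⟨k, hk⟩ := hH2.exists_orderOf_eq_pow ⟨e, he⟩
  rw [orderOf_mk] at hk
  have h3 : Odd (orderOf e) := hodd.of_dvd_nat (orderOf_dvd_of_pow_eq_one h2)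
  rcases Nat.eq_zero_or_pos k with rfl | hk0
  · exact orderOf_eq_one_iff.1 (by simpa using hk)
  · rw [hk] at h3
    exact absurd h3 (Nat.not_odd_iff_even.2 (Nat.even_pow.2 ⟨even_two, hk0.ne'⟩))

variable {H : Subgroup G} (hH2 : IsPGroup 2 H) (hHab : IsMulCommutative H)
  (hcl : Cfsg.IsExtremelyClosed H)

include hH2 hHab hcl

/-- The colour of a conjugate involution, together with a decomposition. -/
theorem colour_spec {t : G} (ht : t ∈ invClass H) :
    colour H t ∈ H ∧ orderOf (colour H t) = 2 ∧ Odd (orderOf (t * colour H t)) ∧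
      (∀ u ∈ H, orderOf u = 2 → Odd (orderOf (t * u)) → colour H t = u) ∧
      ∃ O : Subgroup G, H ⊓ O = ⊥ ∧ H ≤ normalizer (O : Set G) ∧ Odd (Nat.card O) ∧
        ∃ o ∈ O, t = colour H t * o := by
  have ht2 := mul_self_of_orderOf (orderOf_invClass ht)
  obtain ⟨g, e₀, he₀, he₀2, rfl⟩ := ht
  obtain ⟨O, -, hinf, hn, hodd, hdec⟩ := exists_pair hH2 hHab hcl g
  obtain ⟨e, he, o, ho, heo⟩ := hdec _ (mem_sup_right (LAE65.conj_mem_map he₀))
  rw [heo] at ht2 ⊢
  have hee : e * e = 1 := by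
    refine (Subgroup.eq_bot_iff_forall _).1 hinf _ ⟨H.mul_mem he he, ?_⟩
    have h1 : e⁻¹ * o * e * o ∈ O := O.mul_mem ((mem_normalizer_iff''.1 (hn he) _).1 ho) ho
    have h2 : e * e = (e⁻¹ * o * e * o)⁻¹ := eq_inv_of_mul_eq_one_left
      (by rw [← ht2]; group)
    rw [h2]
    exact O.inv_mem h1
  have he1 : e ≠ 1 := fun h => by
    have h1 := odd_orderOf_of_mem hodd ho
    rw [show o = e * o by rw [h, one_mul], ← heo, orderOf_conj', he₀2] at h1
    exact absurd h1 (by decide)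
  have he2 : orderOf e = 2 := orderOf_eq_prime (by rw [sq, hee]) he1
  have huniq : ∀ u ∈ H, orderOf u = 2 → Odd (orderOf (e * o * u)) → e = u := by
    intro u hu hu2 h
    rw [show e * o * u = e * u * (u⁻¹ * o * u) by group] at h
    have h1 := eq_one_of_odd hH2 hinf hn (H.mul_mem he hu)
      ((mem_normalizer_iff''.1 (hn hu) _).1 ho) h
    rw [eq_inv_of_mul_eq_one_left h1, inv_of_orderOf hu2]
  have hex : e ∈ H ∧ orderOf e = 2 ∧ Odd (orderOf (e * o * e)) := by
    refine ⟨he, he2, odd_orderOf_of_mem hodd ?_⟩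
    nth_rw 2 [← inv_of_orderOf he2]
    exact (mem_normalizer_iff.1 (hn he) _).1 ho
  have hs := Classical.epsilon_spec (p := fun u => u ∈ H ∧ orderOf u = 2 ∧ Odd (orderOf (e * o * u)))
    ⟨e, hex⟩
  have hce : colour H (e * o) = e := (huniq _ hs.1 hs.2.1 hs.2.2).symm
  rw [hce]
  exact ⟨hex.1, hex.2.1, hex.2.2, huniq, O, hinf, hn, hodd, o, ho, rfl⟩

theorem colour_eq {t u : G} (ht : t ∈ invClass H) (hu : u ∈ H) (hu2 : orderOf u = 2)
    (h : Odd (orderOf (t * u))) : colour H t = u :=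
  (colour_spec hH2 hHab hcl ht).2.2.2.1 u hu hu2 h

theorem colour_mem {t : G} (ht : t ∈ invClass H) :
    colour H t ∈ H ∧ orderOf (colour H t) = 2 :=
  ⟨(colour_spec hH2 hHab hcl ht).1, (colour_spec hH2 hHab hcl ht).2.1⟩

theorem colour_mem_invClass {t : G} (ht : t ∈ invClass H) : colour H t ∈ invClass H :=
  self_mem_invClass (colour_mem hH2 hHab hcl ht).1 (colour_mem hH2 hHab hcl ht).2

theorem colour_self {e : G} (he : e ∈ H) (he2 : orderOf e = 2) : colour H e = e :=
  colour_eq hH2 hHab hcl (self_mem_invClass he he2) he he2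
    (by rw [mul_self_of_orderOf he2, orderOf_one]; exact odd_one)

theorem colour_normalizer {n : G} (hn : n ∈ normalizer (H : Set G)) {t : G}
    (ht : t ∈ invClass H) : colour H (n * t * n⁻¹) = n * colour H t * n⁻¹ := by
  obtain ⟨h1, h2, h3, -⟩ := colour_spec hH2 hHab hcl ht
  refine colour_eq hH2 hHab hcl (conj_mem_invClass ht n) ((mem_normalizer_iff.1 hn _).1 h1)
    (by rw [orderOf_conj', h2]) ?_
  rw [show n * t * n⁻¹ * (n * colour H t * n⁻¹) = n * (t * colour H t) * n⁻¹ by group,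
    orderOf_conj']
  exact h3

variable {a : G} (ha : a ∈ H) (ha2 : orderOf a = 2) {W : Subgroup G}
  (hWC : W ≤ centralizer ({a} : Set G))
  (hCW : centralizer ({a} : Set G) ≤ normalizer (W : Set G)) (hWodd : Odd (Nat.card W))
  (hfac : centralizer ({a} : Set G) ≤
    (normalizer (H : Set G) ⊓ centralizer ({a} : Set G)) ⊔ W)

include ha ha2 hWC hCW hWodd hfac

omit ha2 in
/-- A conjugate involution centralising `a` is conjugate into `H` under `W`. -/
theorem exists_core_conj {s : G} (hs : s ∈ invClass H) (hsC : s ∈ centralizer ({a} : Set G)) :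
    ∃ o ∈ W, o⁻¹ * s * o ∈ H ∧ orderOf (o⁻¹ * s * o) = 2 ∧ s * (o⁻¹ * s * o) ∈ W := by
  set N := normalizer (H : Set G) ⊓ centralizer ({a} : Set G)
  have hNW : N ≤ normalizer (W : Set G) := le_trans inf_le_right hCW
  have hs' : s ∈ ((N ⊔ W : Subgroup G) : Set G) := hfac hsC
  rw [coe_mul_of_left_le_normalizer_right N W hNW] at hs'
  obtain ⟨n, hn, w, hw, hnw⟩ := hs'
  have hss := mul_self_of_orderOf (orderOf_invClass hs)
  have hsi := inv_of_orderOf (orderOf_invClass hs)
  have hsW : zpowers s ≤ normalizer (W : Set G) := zpowers_le.2 (hCW hsC)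
  have hsn : n = s * w⁻¹ := by rw [← hnw]; group
  -- the `2`-part of `n` is an involution in the coset of `s`
  set t := orderOf n with ht
  set m := t / 2 ^ t.factorization 2 with hm
  have hmodd : Odd m := by
    rw [← Nat.not_even_iff_odd, even_iff_two_dvd]
    exact Nat.not_dvd_ordCompl Nat.prime_two (orderOf_pos n).ne'
  obtain ⟨k, hk⟩ := hmodd
  set n₂ := n ^ m with hn₂
  have hsm : s ^ m = s := by rw [hk, pow_succ, pow_mul, sq, hss, one_pow, one_mul]
  have hr : s * n₂ ∈ W := by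
    have h1 := pow_mul_mem hsW (mem_zpowers s) (W.inv_mem hw) m
    rwa [hsm, hsi, ← hsn] at h1
  have hn₂2 : n₂ * n₂ = 1 := by
    have h1 : n₂ * n₂ ∈ W := by
      have h2 := W.mul_mem ((mem_normalizer_iff.1 (hCW hsC) _).1 hr) hr
      rwa [show s * (s * n₂) * s⁻¹ * (s * n₂) = s * s * (n₂ * n₂) by group, hss,
        one_mul] at h2
    refine orderOf_eq_one_iff.1 (Nat.eq_one_of_dvd_coprimes
      (Nat.Coprime.pow_left (t.factorization 2) (Nat.coprime_two_left.2 hWodd)) ?_
      ((Subgroup.orderOf_coe (⟨_, h1⟩ : W)).symm ▸ orderOf_dvd_natCard _))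
    apply orderOf_dvd_of_pow_eq_one
    rw [← sq, hn₂, ← pow_mul, ← pow_mul,
      show m * (2 * 2 ^ t.factorization 2) = (2 ^ t.factorization 2 * m) * 2 by ring, hm,
      Nat.ordProj_mul_ordCompl_eq_self, pow_mul, ht, pow_orderOf_eq_one, one_pow]
  have hn₂N : n₂ ∈ N := pow_mem hn m
  -- dihedral conjugation
  obtain ⟨j, hj⟩ := odd_orderOf_of_mem hWodd hr
  set r := s * n₂ with hrdef
  have hn₂i : n₂⁻¹ = n₂ := inv_eq_of_mul_eq_one_right hn₂2
  have hinv : ∀ i : ℕ, n₂ * (r ^ i)⁻¹ = r ^ i * n₂ := by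
    intro i
    induction i with
    | zero => simp
    | succ i ih =>
      have h1 : n₂ * r⁻¹ = r * n₂ := by
        rw [hrdef, mul_inv_rev, hn₂i, hsi, ← mul_assoc, hn₂2, one_mul, mul_assoc, hn₂2, mul_one]
      nth_rw 1 [pow_succ]
      rw [mul_inv_rev, ← mul_assoc, h1, mul_assoc, ih, ← mul_assoc, ← pow_succ']
  refine ⟨r ^ (j + 1), W.pow_mem hr _, ?_⟩
  have hconj : (r ^ (j + 1))⁻¹ * s * r ^ (j + 1) = n₂ := by
    have h1 : r ^ (j + 1) * n₂ * (r ^ (j + 1))⁻¹ = s := by
      rw [mul_assoc, hinv, ← mul_assoc, ← pow_add,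
        show j + 1 + (j + 1) = (2 * j + 1) + 1 by ring, pow_succ, ← hj, pow_orderOf_eq_one,
        one_mul, hrdef, mul_assoc, hn₂2, mul_one]
    have h3 := congrArg (fun x => (r ^ (j + 1))⁻¹ * x * r ^ (j + 1)) h1
    simpa [mul_assoc] using h3.symm
  have hT : (r ^ (j + 1))⁻¹ * s * r ^ (j + 1) ∈ invClass H := by
    simpa using conj_mem_invClass hs (r ^ (j + 1))⁻¹
  refine ⟨?_, orderOf_invClass hT, hconj.symm ▸ hr⟩
  obtain ⟨g, e, he, he2, heq⟩ := hT
  exact mem_of_conj_mem_normalizer hcl (g := g) (heq ▸ LAE65.conj_mem_map he) (hconj ▸ hn₂N.1)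

/-- Conjugation by `W` does not change the colour of an involution centralising `a`. -/
theorem colour_conj_centralizer {s c : G} (hs : s ∈ invClass H)
    (hsC : s ∈ centralizer ({a} : Set G)) (hc : c ∈ W) :
    colour H (c * s * c⁻¹) = colour H s := by
  obtain ⟨o, -, h1, h2, h3⟩ := exists_core_conj hH2 hHab hcl ha hWC hCW hWodd hfac hs hsC
  rw [colour_eq hH2 hHab hcl hs h1 h2 (odd_orderOf_of_mem hWodd h3)]
  refine colour_eq hH2 hHab hcl (conj_mem_invClass hs c) h1 h2 (odd_orderOf_of_mem hWodd ?_)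
  rw [show c * s * c⁻¹ * (o⁻¹ * s * o) = c * (s * c⁻¹ * s⁻¹) * (s * (o⁻¹ * s * o)) by group]
  exact W.mul_mem (W.mul_mem hc ((mem_normalizer_iff.1 (hCW hsC) _).1 (W.inv_mem hc))) h3

/-- Away from `a`, the colour is read off from the central involution of the dihedral group. -/
theorem exists_central {t : G} (ht : t ∈ invClass H) (hta : colour H t ≠ a) :
    (t * a) ^ orderOf ((t * a) ^ 2) ∈ invClass H ∧
      (t * a) ^ orderOf ((t * a) ^ 2) ∈ centralizer ({a} : Set G) ∧
      colour H ((t * a) ^ orderOf ((t * a) ^ 2)) = colour H t * a := by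
  obtain ⟨he, he2, -, -, O, hinf, hn, hOodd, o, ho, hto⟩ := colour_spec hH2 hHab hcl ht
  set e := colour H t
  have haa := mul_self_of_orderOf ha2
  have hai := inv_of_orderOf ha2
  have htt := mul_self_of_orderOf (orderOf_invClass ht)
  have hti := inv_of_orderOf (orderOf_invClass ht)
  have hcomm : e * a = a * e := congrArg Subtype.val (hHab.is_comm.comm ⟨e, he⟩ ⟨a, ha⟩)
  set h := e * a with hh
  have hhH : h ∈ H := H.mul_mem he ha
  have hh2 : h * h = 1 := by
    rw [hh, mul_assoc e a, ← mul_assoc a e a, ← hcomm, mul_assoc e a a, haa, mul_one,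
      mul_self_of_orderOf he2]
  have hh1 : h ≠ 1 := fun h1 => hta ((eq_inv_of_mul_eq_one_left h1).trans hai)
  have hhord : orderOf h = 2 := orderOf_eq_prime (by rw [sq, hh2]) hh1
  set o' := a⁻¹ * o * a
  have ho' : o' ∈ O := (mem_normalizer_iff''.1 (hn ha) _).1 ho
  set z := t * a with hz
  have hzho : z = h * o' := by
    show t * a = e * a * (a⁻¹ * o * a)
    conv_lhs => rw [hto]
    group
  have hz2 : z ^ 2 ∈ O := by
    have h1 := pow_mul_mem hn hhH ho' 2
    rwa [sq h, hh2, inv_one, one_mul, ← hzho] at h1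
  set m := orderOf (z ^ 2) with hm
  obtain ⟨k, hk⟩ := odd_orderOf_of_mem hOodd hz2
  set w := z ^ m with hw
  have hw2 : w * w = 1 := by
    rw [hw, ← pow_add, ← two_mul, pow_mul, pow_orderOf_eq_one]
  have hhm : h ^ m = h := by
    rw [← hm] at hk
    rw [hk, pow_succ, pow_mul, sq, hh2, one_pow, one_mul]
  have hhw : h⁻¹ * w ∈ O := by
    have h1 := pow_mul_mem hn hhH ho' m
    rwa [hhm, ← hzho] at h1
  have hw1 : w ≠ 1 := fun h1 => by
    rw [h1, mul_one, inv_mem_iff] at hhw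
    exact hh1 ((Subgroup.eq_bot_iff_forall _).1 hinf _ ⟨hhH, hhw⟩)
  -- `w` centralises `a`
  have hza : a * z * a⁻¹ = z⁻¹ := by
    rw [hz, mul_inv_rev, hti, hai]
    simp [mul_assoc, haa]
  have hwa : a * w * a⁻¹ = w := by
    rw [hw, ← MulAut.conj_apply, map_pow, MulAut.conj_apply, hza, inv_pow]
    exact inv_eq_of_mul_eq_one_right hw2
  have hwC : w ∈ centralizer ({a} : Set G) := by
    rw [mem_centralizer_singleton_iff]
    exact (mul_inv_eq_iff_eq_mul.1 hwa).symm
  -- `a w` is a conjugate of `t`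
  obtain ⟨y, hy⟩ := exists_conj_pow haa htt k
  rw [← hm] at hk
  rw [← hk, ← hw] at hy
  have hsT : a * w ∈ invClass H := hy ▸ conj_mem_invClass ht y
  have hsC : a * w ∈ centralizer ({a} : Set G) :=
    mul_mem (mem_centralizer_singleton_iff.2 rfl) hwC
  obtain ⟨c, hc, hcH, -, -⟩ := exists_core_conj hH2 hHab hcl ha hWC hCW hWodd hfac hsT hsC
  have hca : c⁻¹ * a * c = a := by
    rw [mul_assoc, ← mem_centralizer_singleton_iff.1 (hWC hc), inv_mul_cancel_left]
  have hwH : c⁻¹ * w * c ∈ H := by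
    have h1 := H.mul_mem (H.inv_mem ha) hcH
    rwa [show a⁻¹ * (c⁻¹ * (a * w) * c) = a⁻¹ * (c⁻¹ * a * c) * (c⁻¹ * w * c) by group, hca,
      inv_mul_cancel, one_mul] at h1
  have hwT : w ∈ invClass H := by
    refine ⟨c, c⁻¹ * w * c, hwH, ?_, by group⟩
    have h1 := orderOf_conj' c⁻¹ w
    rw [inv_inv] at h1
    rw [h1]
    exact orderOf_eq_prime (by rw [sq, hw2]) hw1
  refine ⟨hwT, hwC, colour_eq hH2 hHab hcl hwT hhH hhord (odd_orderOf_of_mem hOodd ?_)⟩
  have hwi : w⁻¹ = w := inv_eq_of_mul_eq_one_right hw2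
  have h2 := O.inv_mem hhw
  rwa [mul_inv_rev, inv_inv, hwi] at h2

/-- Conjugation by `W` preserves the colour. -/
theorem colour_conj_core {t c : G} (ht : t ∈ invClass H) (hc : c ∈ W) :
    colour H (c * t * c⁻¹) = colour H t := by
  have haa := mem_centralizer_singleton_iff.1 (hWC hc)
  have hca : c * a * c⁻¹ = a := by rw [haa, mul_inv_cancel_right]
  have ht' := conj_mem_invClass ht c
  have hprod : c * t * c⁻¹ * a = c * (t * a) * c⁻¹ := by
    rw [show c * (t * a) * c⁻¹ = c * t * c⁻¹ * (c * a * c⁻¹) by group, hca]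
  by_cases h1 : colour H t = a
  · have h3 := (colour_spec hH2 hHab hcl ht).2.2.1
    rw [h1] at h3 ⊢
    exact colour_eq hH2 hHab hcl ht' ha ha2 (by rw [hprod, orderOf_conj']; exact h3)
  have h2 : colour H (c * t * c⁻¹) ≠ a := fun h => h1 <| by
    have h3 := (colour_spec hH2 hHab hcl ht').2.2.1
    rw [h, hprod, orderOf_conj'] at h3
    exact colour_eq hH2 hHab hcl ht ha ha2 h3
  obtain ⟨hw, hwC, hwe⟩ := exists_central hH2 hHab hcl ha ha2 hWC hCW hWodd hfac ht h1
  obtain ⟨-, -, hwe'⟩ := exists_central hH2 hHab hcl ha ha2 hWC hCW hWodd hfac ht' h2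
  have hpow : ∀ i : ℕ, (c * (t * a) * c⁻¹) ^ i = c * (t * a) ^ i * c⁻¹ := fun i => conj_pow
  rw [hprod, hpow 2, orderOf_conj', hpow,
    colour_conj_centralizer hH2 hHab hcl ha ha2 hWC hCW hWodd hfac hw hwC hc, hwe] at hwe'
  exact (mul_right_cancel hwe').symm

end Cfsg.Agent.EC72
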